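import Mathlib

/-!
# Formal properties of the unit `F ⟶ f_* f⁻¹ F` for sheaves of sets on topological spaces

For a continuous map `f : Y ⟶ X` and a sheaf of sets `F` on `X`:
* `unit_germ_eq`: if `η_U(s)` and `η_{U'}(s')` agree on an open `O'` of `Y` containing `y`,
  then `s` and `s'` have the same germ at `f y`;
* `unit_locally_surjective`: every section of `f⁻¹F` is locally of the form `η_U(s)`.
Both are proved formally from the adjunction (test sheaf of all families of germs; subsheaf of
sections locally coming from `F`).
-/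

set_option autoImplicit false
set_option backward.isDefEq.respectTransparency false
set_option backward.isDefEq.respectTransparency.types false
universe u
open CategoryTheory TopologicalSpace Opposite

namespace Groth.Agent.Lib.Helper28.SpecSh

variable {X Y : TopCat.{u}} (f : Y ⟶ X) (F : TopCat.Sheaf (Type u) X)

/-- the adjunction `f⁻¹ ⊣ f_*` -/
noncomputable abbrev adj : TopCat.Sheaf.pullback (Type u) f ⊣ TopCat.Sheaf.pushforward (Type u) f :=
  TopCat.Sheaf.pullbackPushforwardAdjunction (Type u) f

/-- `f⁻¹F` -/
noncomputable abbrev pull : TopCat.Sheaf (Type u) Y := (TopCat.Sheaf.pullback (Type u) f).obj F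

/-- the unit `F ⟶ f_* f⁻¹ F`, on sections over `U` -/
noncomputable def eta (U : Opens X) :
    F.obj.obj (op U) → (pull f F).obj.obj (op ((Opens.map f).obj U)) :=
  fun s => ((adj f).unit.app F).hom.app (op U) s

theorem eta_res {U V : Opens X} (h : V ≤ U) (s : F.obj.obj (op U)) :
    eta f F V (F.obj.map (homOfLE h).op s) =
      (pull f F).obj.map (homOfLE ((Opens.map f).monotone h)).op (eta f F U s) := by
  have := congrArg (fun k => k s) (congrArg (fun k => (ConcreteCategory.hom k : _ → _))
    (((adj f).unit.app F).hom.naturality (homOfLE h).op))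
  exact this

/-- the test sheaf of all families of germs -/
noncomputable abbrev testSheaf : TopCat.Sheaf (Type u) Y :=
  TopCat.sheafToTypes Y (fun y => F.presheaf.stalk (f y))

/-- the tautological map `F ⟶ f_* (families of germs)` -/
noncomputable def toTest : F ⟶ (TopCat.Sheaf.pushforward (Type u) f).obj (testSheaf f F) :=
  ObjectProperty.homMk
    { app := fun U => ↾fun (s : F.obj.obj U) (y : ((Opens.map f).obj U.unop : Opens Y)) =>
        F.presheaf.germ U.unop (f y.1) y.2 s
      naturality := by
        intro U V i
        ext s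
        funext y
        exact TopCat.Presheaf.germ_res_apply' F.presheaf i (f y.1) y.2 s }

/-- the adjunct `f⁻¹F ⟶ (families of germs)` -/
noncomputable def fromPull : pull f F ⟶ testSheaf f F :=
  ((adj f).homEquiv F (testSheaf f F)).symm (toTest f F)

theorem unit_fromPull :
    (adj f).unit.app F ≫ (TopCat.Sheaf.pushforward (Type u) f).map (fromPull f F) = toTest f F := by
  have h := (adj f).homEquiv_unit (X := F) (Y := testSheaf f F) (f := fromPull f F)
  rw [← h]
  exact Equiv.apply_symm_apply _ _

theorem fromPull_eta (U : Opens X) (s : F.obj.obj (op U)) :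
    (fromPull f F).hom.app (op ((Opens.map f).obj U)) (eta f F U s) =
      fun (y : ((Opens.map f).obj U : Opens Y)) => F.presheaf.germ U (f y.1) y.2 s := by
  have h := congrArg (fun k => (ConcreteCategory.hom (k.hom.app (op U)) : _ → _) s)
    (unit_fromPull f F)
  exact h

/-- **(I-inj)** if `η_U(s)` and `η_{U'}(s')` agree on an open `O'` of `Y`, then `s` and `s'` have
the same germ at `f y` for every `y ∈ O'`. -/
theorem unit_germ_eq {U U' : Opens X} (s : F.obj.obj (op U)) (s' : F.obj.obj (op U'))
    (O' : Opens Y) (h1 : O' ≤ (Opens.map f).obj U) (h2 : O' ≤ (Opens.map f).obj U')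
    (heq : (pull f F).obj.map (homOfLE h1).op (eta f F U s) =
      (pull f F).obj.map (homOfLE h2).op (eta f F U' s'))
    (y : Y) (hy : y ∈ O') :
    F.presheaf.germ U (f y) (h1 hy) s = F.presheaf.germ U' (f y) (h2 hy) s' := by
  have n1 := congrArg (fun k => (ConcreteCategory.hom k : _ → _) (eta f F U s))
    ((fromPull f F).hom.naturality (homOfLE h1).op)
  have n2 := congrArg (fun k => (ConcreteCategory.hom k : _ → _) (eta f F U' s'))
    ((fromPull f F).hom.naturality (homOfLE h2).op)
  simp only [types_comp_apply] at n1 n2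
  rw [fromPull_eta] at n1 n2
  rw [heq, n2] at n1
  exact (congrFun n1 ⟨y, hy⟩).symm

/-- sections of `f⁻¹F` over `O` that are restrictions of some `η_U(s)`. -/
noncomputable def imgSub : Subfunctor (pull f F).obj where
  obj O := {τ | ∃ (U : Opens X) (h : O.unop ≤ (Opens.map f).obj U) (s : F.obj.obj (op U)),
    τ = (pull f F).obj.map (homOfLE h).op (eta f F U s)}
  map := by
    rintro O O' i τ ⟨U, h, s, rfl⟩
    refine ⟨U, i.unop.le.trans h, s, ?_⟩
    change (pull f F).obj.map i ((pull f F).obj.map (homOfLE h).op (eta f F U s)) = _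
    rw [← types_comp_apply ((pull f F).obj.map _) ((pull f F).obj.map _), ← Functor.map_comp]
    rfl

/-- the subsheaf of sections of `f⁻¹F` locally coming from `F`. -/
noncomputable def locSub : Subfunctor (pull f F).obj :=
  (imgSub f F).sheafify (Opens.grothendieckTopology Y)

theorem pull_isSheaf_type : Presieve.IsSheaf (Opens.grothendieckTopology Y) (pull f F).obj :=
  (isSheaf_iff_isSheaf_of_type _ _).1 (pull f F).property

/-- the subsheaf as a sheaf -/
noncomputable def locSheaf : TopCat.Sheaf (Type u) Y :=
  ⟨(locSub f F).toFunctor, (isSheaf_iff_isSheaf_of_type _ _).2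
    ((imgSub f F).sheafify_isSheaf (pull_isSheaf_type f F))⟩

noncomputable def locι : locSheaf f F ⟶ pull f F := ObjectProperty.homMk (locSub f F).ι

theorem eta_mem (U : Opens X) (s : F.obj.obj (op U)) :
    eta f F U s ∈ (locSub f F).obj (op ((Opens.map f).obj U)) := by
  apply (imgSub f F).le_sheafify
  refine ⟨U, le_rfl, s, ?_⟩
  have : (homOfLE (le_refl ((Opens.map f).obj U))).op = 𝟙 _ := rfl
  rw [this]
  exact (congrArg (fun k => (ConcreteCategory.hom k : _ → _) (eta f F U s))
    ((pull f F).obj.map_id (op ((Opens.map f).obj U)))).symm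

noncomputable def toLoc : F ⟶ (TopCat.Sheaf.pushforward (Type u) f).obj (locSheaf f F) :=
  ObjectProperty.homMk
    { app := fun U => ↾fun (s : F.obj.obj U) => ⟨eta f F U.unop s, eta_mem f F U.unop s⟩
      naturality := by
        intro U V i
        ext s
        apply Subtype.ext
        exact congrArg (fun k => (ConcreteCategory.hom k : _ → _) s)
          (((adj f).unit.app F).hom.naturality i) }

theorem toLoc_ι :
    toLoc f F ≫ (TopCat.Sheaf.pushforward (Type u) f).map (locι f F) = (adj f).unit.app F := by
  apply ObjectProperty.hom_ext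
  ext U s
  rfl

theorem split_ι :
    ((adj f).homEquiv F (locSheaf f F)).symm (toLoc f F) ≫ locι f F = 𝟙 (pull f F) := by
  apply ((adj f).homEquiv F (pull f F)).injective
  rw [Adjunction.homEquiv_naturality_right, Equiv.apply_symm_apply, toLoc_ι,
    Adjunction.homEquiv_id]

theorem locSub_eq_top (O : Opens Y) (τ : (pull f F).obj.obj (op O)) :
    τ ∈ (locSub f F).obj (op O) := by
  have h := congrArg (fun k => (ConcreteCategory.hom (k.hom.app (op O)) : _ → _) τ) (split_ι f F)
  have h' : ((((adj f).homEquiv F (locSheaf f F)).symm (toLoc f F)).hom.app (op O) τ).1 = τ := h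
  rw [← h']
  exact Subtype.property _

/-- **(I-surj)** every section of `f⁻¹F` is locally of the form `η_U(s)`. -/
theorem unit_locally_surjective (O : Opens Y) (τ : (pull f F).obj.obj (op O)) (y : Y) (hy : y ∈ O) :
    ∃ (V : Opens Y) (hV : V ≤ O) (_ : y ∈ V) (U : Opens X) (h : V ≤ (Opens.map f).obj U)
      (s : F.obj.obj (op U)),
      (pull f F).obj.map (homOfLE hV).op τ = (pull f F).obj.map (homOfLE h).op (eta f F U s) := by
  have hτ := locSub_eq_top f F O τ
  obtain ⟨V, i, hi, hyV⟩ := hτ y hy
  obtain ⟨U, h, s, hs⟩ := hi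
  exact ⟨V, i.le, hyV, U, h, s, hs⟩

end Groth.Agent.Lib.Helper28.SpecSh
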