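import Mathlib

/-!
# Pro-constructible subsets of spectral spaces

* `exists_specializes_of_mem_closure`: every point of the closure of a subset closed in the
  constructible topology is a specialisation of a point of the subset.
* `isClosed_constr_gen`: the set of generisations of a quasi-compact subset is closed in the
  constructible topology.
-/

set_option autoImplicit false
universe u
open Topology

namespace Groth.Agent.Lib.Helper28.SpecSh

variable {X : Type u} [TopologicalSpace X]

theorem compact_constr (X : Type u) [TopologicalSpace X] [SpectralSpace X] :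
    @CompactSpace X (constructibleTopology X) :=
  @Function.Surjective.compactSpace (WithConstructibleTopology X) X _ (constructibleTopology X) _
    (WithTopology.continuous_ofTopology _) inferInstance (WithTopology.ofTopology_surjective _)

theorem isOpen_constr_of_isOpen [PrespectralSpace X] {W : Set X} (hW : IsOpen W) :
    IsOpen[constructibleTopology X] W := by
  obtain ⟨S, hS, rfl⟩ := (PrespectralSpace.isTopologicalBasis (X := X)).open_eq_sUnion hW
  exact @isOpen_sUnion X (constructibleTopology X) S
    (fun s hs => (hS hs).2.isOpen_constructibleTopology_of_isOpen (hS hs).1)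

theorem isClosed_constr_of_isClosed [PrespectralSpace X] {C : Set X} (hC : IsClosed C) :
    IsClosed[constructibleTopology X] C :=
  @IsClosed.mk X (constructibleTopology X) _ (isOpen_constr_of_isOpen hC.isOpen_compl)

theorem isClosed_constr_of_compact_open {N : Set X} (ho : IsOpen N) (hc : IsCompact N) :
    IsClosed[constructibleTopology X] N := by
  refine @IsClosed.mk X (constructibleTopology X) _ ?_
  apply IsCompact.isOpen_constructibleTopology_of_isClosed
  · simpa using hc
  · exact ho.isClosed_compl

/-- the set of generisations of points of `K` -/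
def gen (K : Set X) : Set X := {x | ∃ z ∈ K, x ⤳ z}

theorem gen_eq_iInter [PrespectralSpace X] {K : Set X} (hK : IsCompact K) :
    gen K = ⋂ N : {N : Set X // IsOpen N ∧ IsCompact N ∧ K ⊆ N}, (N : Set X) := by
  ext x
  simp only [Set.mem_iInter]
  constructor
  · rintro ⟨z, hz, hxz⟩ N
    exact hxz.mem_open N.2.1 (N.2.2.2 hz)
  · intro h
    by_contra hx
    have hsub : K ⊆ (closure {x})ᶜ := by
      intro z hz hzx
      exact hx ⟨z, hz, specializes_iff_mem_closure.2 hzx⟩
    obtain ⟨W, hWc, hWo, hKW, hWU⟩ := PrespectralSpace.exists_isCompact_and_isOpen_between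
      hK isClosed_closure.isOpen_compl hsub
    exact hWU (h ⟨W, hWo, hWc, hKW⟩) (subset_closure rfl)

theorem isClosed_constr_gen [PrespectralSpace X] {K : Set X} (hK : IsCompact K) :
    IsClosed[constructibleTopology X] (gen K) := by
  rw [gen_eq_iInter hK]
  exact @isClosed_iInter X _ (constructibleTopology X) _
    (fun N => isClosed_constr_of_compact_open N.2.1 N.2.2.1)

theorem exists_specializes_of_mem_closure [SpectralSpace X] {B : Set X}
    (hB : IsClosed[constructibleTopology X] B) {x : X} (hx : x ∈ closure B) :
    ∃ b ∈ B, b ⤳ x := by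
  let ι := {N : Set X // IsOpen N ∧ IsCompact N ∧ x ∈ N}
  have hcl : ∀ N : ι, IsClosed[constructibleTopology X] (B ∩ (N : Set X)) := fun N =>
    @IsClosed.inter X _ _ (constructibleTopology X) hB
      (isClosed_constr_of_compact_open N.2.1 N.2.2.1)
  have hfin : ∀ u : Finset ι, (Set.univ ∩ ⋂ N ∈ u, (B ∩ ((N : ι) : Set X))).Nonempty := by
    intro u
    have ho : IsOpen (⋂ N ∈ u, ((N : ι) : Set X)) := isOpen_biInter_finset fun N _ => N.2.1
    have hxm : x ∈ ⋂ N ∈ u, ((N : ι) : Set X) := by
      simp only [Set.mem_iInter]
      exact fun N _ => N.2.2.2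
    obtain ⟨b, hbN, hbB⟩ := mem_closure_iff.1 hx _ ho hxm
    refine ⟨b, Set.mem_univ _, ?_⟩
    simp only [Set.mem_iInter] at hbN ⊢
    exact fun N hN => ⟨hbB, hbN N hN⟩
  obtain ⟨b, -, hb⟩ := @IsCompact.inter_iInter_nonempty X (constructibleTopology X) Set.univ ι
    (@isCompact_univ X (constructibleTopology X) (compact_constr X))
    (fun N : ι => B ∩ (N : Set X)) hcl hfin
  simp only [Set.mem_iInter] at hb
  have hbB : b ∈ B := by
    obtain ⟨N, hN, hNx⟩ : ∃ N : Set X, (IsOpen N ∧ IsCompact N) ∧ x ∈ N := by
      obtain ⟨N, hN, hxN, -⟩ := (PrespectralSpace.isTopologicalBasis (X := X)).exists_subset_of_mem_open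
        (Set.mem_univ x) isOpen_univ
      exact ⟨N, hN, hxN⟩
    exact (hb ⟨N, hN.1, hN.2, hNx⟩).1
  refine ⟨b, hbB, ?_⟩
  rw [specializes_iff_forall_open]
  intro W hW hxW
  obtain ⟨N, hN, hxN, hNW⟩ := (PrespectralSpace.isTopologicalBasis (X := X)).exists_subset_of_mem_open
    hxW hW
  exact hNW (hb ⟨N, hN.1, hN.2, hxN⟩).2

end Groth.Agent.Lib.Helper28.SpecSh
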