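import Mathlib
import Groth.Agent.Lib.Helper28.SpecSh.Top

/-!
# Gluing sections along a closed subset of a spectral space

`X` spectral, `Z ⊆ X` closed with `Z ∩ closure {x}` connected for all `x`.  Given finitely many
quasi-compact opens `U j` covering `Z` and sections `s j` of a sheaf of sets `F` over `U j` whose germs
agree at all points of `Z`, there is a global section of `F` with the same germs along `Z`.
-/

set_option autoImplicit false
set_option backward.isDefEq.respectTransparency false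
set_option backward.isDefEq.respectTransparency.types false
universe u v
open CategoryTheory TopologicalSpace Opposite Topology

namespace Groth.Agent.Lib.Helper28.SpecSh

variable {X : TopCat.{u}} (F : TopCat.Sheaf (Type u) X)
variable {J : Type v} (U : J → Opens X) (s : ∀ j, F.obj.obj (op (U j)))

/-- the locus where `s j` and `s k` have the same germ -/
def eqLocus (j k : J) : Set X :=
  {x | ∃ (hj : x ∈ U j) (hk : x ∈ U k),
    F.presheaf.germ (U j) x hj (s j) = F.presheaf.germ (U k) x hk (s k)}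

theorem isOpen_eqLocus (j k : J) : IsOpen (eqLocus F U s j k) := by
  rw [isOpen_iff_forall_mem_open]
  rintro x ⟨hj, hk, h⟩
  obtain ⟨W, hxW, iU, iV, e⟩ := F.presheaf.germ_eq x hj hk (s j) (s k) h
  refine ⟨W, ?_, W.2, hxW⟩
  intro y hy
  refine ⟨iU.le hy, iV.le hy, ?_⟩
  rw [← F.presheaf.germ_res_apply iU y hy (s j), ← F.presheaf.germ_res_apply iV y hy (s k), e]

theorem eqLocus_refl (j : J) {x : X} (hx : x ∈ U j) : x ∈ eqLocus F U s j j := ⟨hx, hx, rfl⟩

theorem eqLocus_symm {j k : J} {x : X} (h : x ∈ eqLocus F U s j k) : x ∈ eqLocus F U s k j := by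
  obtain ⟨hj, hk, h⟩ := h
  exact ⟨hk, hj, h.symm⟩

theorem eqLocus_trans {j k l : J} {x : X} (h : x ∈ eqLocus F U s j k)
    (h' : x ∈ eqLocus F U s k l) : x ∈ eqLocus F U s j l := by
  obtain ⟨hj, hk, h⟩ := h
  obtain ⟨_, hl, h'⟩ := h'
  exact ⟨hj, hl, h.trans h'⟩

variable {Z : Set X}

section
variable (hconn : ∀ x : X, IsConnected (Z ∩ closure {x}))
  (hcov : Z ⊆ ⋃ j, (U j : Set X))
  (hcomp : ∀ (j k : J) (z : X), z ∈ Z → z ∈ U j → z ∈ U k → z ∈ eqLocus F U s j k)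
include hconn hcov hcomp

theorem mem_eqLocus_of_gen {j k : J} {x : X} (hj : x ∈ gen (Z ∩ (U j : Set X)))
    (hk : x ∈ gen (Z ∩ (U k : Set X))) : x ∈ eqLocus F U s j k := by
  by_contra hne
  obtain ⟨z, ⟨hzZ, hzU⟩, hxz⟩ := hj
  obtain ⟨z', ⟨hz'Z, hz'U⟩, hxz'⟩ := hk
  let P : Set X := ⋃ l ∈ {l : J | x ∈ eqLocus F U s j l}, (U l : Set X)
  let Q : Set X := ⋃ l ∈ {l : J | x ∉ eqLocus F U s j l}, (U l : Set X)
  have hP : IsOpen P := isOpen_biUnion fun l _ => (U l).2
  have hQ : IsOpen Q := isOpen_biUnion fun l _ => (U l).2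
  have hpre := (hconn x).isPreconnected
  have hsub : Z ∩ closure {x} ⊆ P ∪ Q := by
    rintro w ⟨hwZ, -⟩
    obtain ⟨l, hl⟩ := Set.mem_iUnion.1 (hcov hwZ)
    by_cases hx : x ∈ eqLocus F U s j l
    · exact Or.inl (Set.mem_biUnion (by exact hx) hl)
    · exact Or.inr (Set.mem_biUnion (by exact hx) hl)
  have hxUj : x ∈ U j := hxz.mem_open (U j).2 hzU
  have h1 : ((Z ∩ closure {x}) ∩ P).Nonempty :=
    ⟨z, ⟨hzZ, specializes_iff_mem_closure.1 hxz⟩,
      Set.mem_biUnion (show j ∈ {l : J | x ∈ eqLocus F U s j l} from eqLocus_refl F U s j hxUj) hzU⟩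
  have h2 : ((Z ∩ closure {x}) ∩ Q).Nonempty :=
    ⟨z', ⟨hz'Z, specializes_iff_mem_closure.1 hxz'⟩,
      Set.mem_biUnion (show k ∈ {l : J | x ∉ eqLocus F U s j l} from hne) hz'U⟩
  obtain ⟨w, ⟨hwZ, hwx⟩, hwP, hwQ⟩ := hpre P Q hP hQ hsub h1 h2
  obtain ⟨l, hl, hwl⟩ := Set.mem_iUnion₂.1 hwP
  obtain ⟨l', hl', hwl'⟩ := Set.mem_iUnion₂.1 hwQ
  have hw : w ∈ eqLocus F U s l l' := hcomp l l' w hwZ hwl hwl'
  have hx : x ∈ eqLocus F U s l l' :=
    (specializes_iff_mem_closure.2 hwx).mem_open (isOpen_eqLocus F U s l l') hw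
  exact hl' (eqLocus_trans F U s hl hx)

theorem exists_gen (x : X) : ∃ l, x ∈ gen (Z ∩ (U l : Set X)) := by
  obtain ⟨z, hzZ, hzx⟩ := (hconn x).nonempty
  obtain ⟨l, hl⟩ := Set.mem_iUnion.1 (hcov hzZ)
  exact ⟨l, z, ⟨hzZ, hl⟩, specializes_iff_mem_closure.2 hzx⟩

end

/-- the bad locus in `U j` -/
def bad (Z : Set X) (j : J) : Set X :=
  ⋃ k, (gen (Z ∩ (U k : Set X)) ∩ ((U j : Set X) ∩ (eqLocus F U s j k)ᶜ))

variable [SpectralSpace X] [Finite J]

theorem isClosed_constr_bad (hZ : IsClosed Z) (hUc : ∀ j, IsCompact (U j : Set X)) (j : J) :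
    IsClosed[constructibleTopology X] (bad F U s Z j) := by
  refine @isClosed_iUnion_of_finite X _ (constructibleTopology X) _ _ (fun k => ?_)
  refine @IsClosed.inter X _ _ (constructibleTopology X) ?_ ?_
  · exact isClosed_constr_gen ((hUc k).inter_left hZ)
  · refine @IsClosed.inter X _ _ (constructibleTopology X) ?_ ?_
    · exact isClosed_constr_of_compact_open (U j).2 (hUc j)
    · exact isClosed_constr_of_isClosed (isOpen_eqLocus F U s j k).isClosed_compl

section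
variable (hZ : IsClosed Z) (hUc : ∀ j, IsCompact (U j : Set X))
  (hconn : ∀ x : X, IsConnected (Z ∩ closure {x}))
  (hcov : Z ⊆ ⋃ j, (U j : Set X))
  (hcomp : ∀ (j k : J) (z : X), z ∈ Z → z ∈ U j → z ∈ U k → z ∈ eqLocus F U s j k)
include hZ hUc hconn hcov hcomp

theorem closure_bad_inter (j : J) : closure (bad F U s Z j) ∩ (U j : Set X) ⊆ bad F U s Z j := by
  rintro x ⟨hxcl, hxU⟩
  obtain ⟨b, hb, hbx⟩ := exists_specializes_of_mem_closure (isClosed_constr_bad F U s hZ hUc j) hxcl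
  obtain ⟨k, hbk, hbU, hbE⟩ := Set.mem_iUnion.1 hb
  obtain ⟨l, hl⟩ := exists_gen F U s hconn hcov hcomp x
  have hbl : b ∈ gen (Z ∩ (U l : Set X)) := by
    obtain ⟨z, hz, hxz⟩ := hl
    exact ⟨z, hz, hbx.trans hxz⟩
  refine Set.mem_iUnion.2 ⟨l, hl, hxU, fun hxE => hbE ?_⟩
  have h1 : b ∈ eqLocus F U s j l := hbx.mem_open (isOpen_eqLocus F U s j l) hxE
  have h2 : b ∈ eqLocus F U s l k := mem_eqLocus_of_gen F U s hconn hcov hcomp hbl hbk
  exact eqLocus_trans F U s h1 h2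

/-- the good open part of `U j` -/
def good (j : J) : Opens X :=
  ⟨(U j : Set X) ∩ (closure (bad F U s Z j))ᶜ, (U j).2.inter isClosed_closure.isOpen_compl⟩

omit hZ hUc hconn hcov hcomp in
theorem good_le (j : J) : good F U s (Z := Z) j ≤ U j := fun _ hx => hx.1

theorem mem_good_iff (j : J) (x : X) :
    x ∈ good F U s (Z := Z) j ↔
      x ∈ U j ∧ ∀ k, x ∈ gen (Z ∩ (U k : Set X)) → x ∈ eqLocus F U s j k := by
  constructor
  · rintro ⟨hxU, hxb⟩
    refine ⟨hxU, fun k hk => ?_⟩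
    by_contra hne
    exact hxb (subset_closure (Set.mem_iUnion.2 ⟨k, hk, hxU, hne⟩))
  · rintro ⟨hxU, h⟩
    refine ⟨hxU, fun hxcl => ?_⟩
    obtain ⟨k, hk, -, hne⟩ := Set.mem_iUnion.1
      (closure_bad_inter F U s hZ hUc hconn hcov hcomp j ⟨hxcl, hxU⟩)
    exact hne (h k hk)

theorem exists_mem_good (x : X) : ∃ l, x ∈ good F U s (Z := Z) l := by
  obtain ⟨l, hl⟩ := exists_gen F U s hconn hcov hcomp x
  refine ⟨l, (mem_good_iff F U s hZ hUc hconn hcov hcomp l x).2 ⟨?_, fun k hk => ?_⟩⟩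
  · obtain ⟨z, hz, hxz⟩ := hl
    exact hxz.mem_open (U l).2 hz.2
  · exact mem_eqLocus_of_gen F U s hconn hcov hcomp hl hk

theorem good_compat {j k : J} {x : X} (hj : x ∈ good F U s (Z := Z) j)
    (hk : x ∈ good F U s (Z := Z) k) : x ∈ eqLocus F U s j k := by
  obtain ⟨l, hl⟩ := exists_gen F U s hconn hcov hcomp x
  have h1 := ((mem_good_iff F U s hZ hUc hconn hcov hcomp j x).1 hj).2 l hl
  have h2 := ((mem_good_iff F U s hZ hUc hconn hcov hcomp k x).1 hk).2 l hl
  exact eqLocus_trans F U s h1 (eqLocus_symm F U s h2)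

/-- **Gluing along `Z`.** -/
theorem exists_global_section :
    ∃ σ : F.obj.obj (op (⊤ : Opens X)), ∀ (j : J) (z : X) (_ : z ∈ Z) (hj : z ∈ U j),
      F.presheaf.germ ⊤ z trivial σ = F.presheaf.germ (U j) z hj (s j) := by
  let V : J → Opens X := fun j => good F U s (Z := Z) j
  let sf : ∀ j, F.obj.obj (op (V j)) := fun j => F.obj.map (homOfLE (good_le F U s j)).op (s j)
  have hsf : ∀ j (x : X) (hx : x ∈ V j), F.presheaf.germ (V j) x hx (sf j) =
      F.presheaf.germ (U j) x (good_le F U s j hx) (s j) := fun j x hx =>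
    F.presheaf.germ_res_apply (homOfLE (good_le F U s j)) x hx (s j)
  have hcompat : TopCat.Presheaf.IsCompatible F.obj V sf := by
    intro j k
    apply TopCat.Presheaf.section_ext F
    intro x hx
    rw [F.presheaf.germ_res_apply (Opens.infLELeft (V j) (V k)) x hx (sf j),
      F.presheaf.germ_res_apply (Opens.infLERight (V j) (V k)) x hx (sf k), hsf, hsf]
    obtain ⟨_, _, h⟩ := good_compat F U s hZ hUc hconn hcov hcomp hx.1 hx.2
    exact h
  have hcover : (⊤ : Opens X) ≤ iSup V := by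
    intro x _
    obtain ⟨l, hl⟩ := exists_mem_good F U s hZ hUc hconn hcov hcomp x
    exact Opens.mem_iSup.2 ⟨l, hl⟩
  obtain ⟨σ, hσ, -⟩ := F.existsUnique_gluing' V ⊤ (fun j => homOfLE le_top) hcover sf hcompat
  refine ⟨σ, fun j z hzZ hj => ?_⟩
  obtain ⟨l, hl⟩ := exists_mem_good F U s hZ hUc hconn hcov hcomp z
  have hzl : z ∈ U l := good_le F U s l hl
  rw [← F.presheaf.germ_res_apply (homOfLE (le_top : V l ≤ ⊤)) z hl σ, hσ l, hsf]
  obtain ⟨_, _, h⟩ := hcomp l j z hzZ hzl hj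
  exact h

end

end Groth.Agent.Lib.Helper28.SpecSh
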