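import Mathlib
import Groth.Agent.Lib.Helper28.SpecSh.Adj
import Groth.Agent.Lib.Helper28.SpecSh.Glue

/-!
# Sections over a closed subset of a spectral space (Stacks 09ZG)
-/

set_option autoImplicit false
set_option backward.isDefEq.respectTransparency false
set_option backward.isDefEq.respectTransparency.types false
universe u
open CategoryTheory TopologicalSpace Opposite Topology

namespace Groth.Agent.Lib.Helper28.SpecSh

variable (X : TopCat.{u}) [SpectralSpace X] (Z : Set X) (hZ : IsClosed Z)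
  (hconn : ∀ x : X, IsConnected (Z ∩ closure {x})) (F : TopCat.Sheaf (Type u) X)

/-- the inclusion of `Z` -/
abbrev incl : TopCat.of Z ⟶ X := TopCat.ofHom ⟨(Subtype.val : Z → X), continuous_subtype_val⟩

theorem pull_map_comp {Y : TopCat.{u}} (G : TopCat.Sheaf (Type u) Y) {A B C : Opens Y} (h1 : A ≤ B)
    (h2 : B ≤ C) (t : G.obj.obj (op C)) :
    G.obj.map (homOfLE h1).op (G.obj.map (homOfLE h2).op t) =
      G.obj.map (homOfLE (h1.trans h2)).op t := by
  rw [← types_comp_apply (G.obj.map _) (G.obj.map _), ← Functor.map_comp]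
  rfl

include hZ hconn in
theorem eta_top_injective : Function.Injective (eta (incl X Z) F ⊤) := by
  intro s s' h
  apply TopCat.Presheaf.section_ext F
  intro x _
  obtain ⟨z, hzZ, hzx⟩ := (hconn x).nonempty
  have hsp : x ⤳ z := specializes_iff_mem_closure.2 hzx
  have hgerm : F.presheaf.germ ⊤ z trivial s = F.presheaf.germ ⊤ z trivial s' :=
    unit_germ_eq (incl X Z) F s s' ((Opens.map (incl X Z)).obj ⊤) le_rfl le_rfl
      (by rw [h]) ⟨z, hzZ⟩ trivial
  have e1 := congrArg (fun k => (ConcreteCategory.hom k : _ → _) s)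
    (F.presheaf.germ_stalkSpecializes (U := ⊤) (y := z) trivial hsp)
  have e2 := congrArg (fun k => (ConcreteCategory.hom k : _ → _) s')
    (F.presheaf.germ_stalkSpecializes (U := ⊤) (y := z) trivial hsp)
  simp only [types_comp_apply] at e1 e2
  rw [← e1, ← e2, hgerm]

/-- local representation of a section of `i⁻¹F` by a section of `F` over a quasi-compact open. -/
theorem exists_local_rep (τ : (pull (incl X Z) F).obj.obj (op ((Opens.map (incl X Z)).obj ⊤)))
    (z : Z) :
    ∃ (N : Opens X) (_ : IsCompact (N : Set X)) (_ : z.1 ∈ N) (s : F.obj.obj (op N)),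
      eta (incl X Z) F N s =
        (pull (incl X Z) F).obj.map (homOfLE ((Opens.map (incl X Z)).monotone le_top)).op τ := by
  obtain ⟨V, hV, hzV, U, h, s, hs⟩ :=
    unit_locally_surjective (incl X Z) F _ τ z trivial
  obtain ⟨t, ht, htV⟩ := isOpen_induced_iff.1 V.2
  have hzU : z.1 ∈ (U : Set X) := h hzV
  have hzt : z.1 ∈ t := by
    have : z ∈ Subtype.val ⁻¹' t := by rw [htV]; exact hzV
    exact this
  obtain ⟨N, hN, hzN, hNsub⟩ :=
    (PrespectralSpace.isTopologicalBasis (X := X)).exists_subset_of_mem_open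
      (show z.1 ∈ (U : Set X) ∩ t from ⟨hzU, hzt⟩) (U.2.inter ht)
  let N' : Opens X := ⟨N, hN.1⟩
  have hNU : N' ≤ U := fun x hx => (hNsub hx).1
  have hNV : (Opens.map (incl X Z)).obj N' ≤ V := by
    intro y hy
    have : y ∈ Subtype.val ⁻¹' t := (hNsub hy).2
    rw [htV] at this
    exact this
  refine ⟨N', hN.2, hzN, F.obj.map (homOfLE hNU).op s, ?_⟩
  rw [eta_res (incl X Z) F hNU s]
  have e1 := pull_map_comp (pull (incl X Z) F) hNV h (eta (incl X Z) F U s)
  have e2 := pull_map_comp (pull (incl X Z) F) hNV hV τ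
  rw [← hs, e2] at e1
  exact e1.symm

include hZ hconn in
theorem eta_top_surjective : Function.Surjective (eta (incl X Z) F ⊤) := by
  intro τ
  choose N hNc hzN sN hsN using exists_local_rep X Z F τ
  have hZc : IsCompact Z := hZ.isCompact
  obtain ⟨T, hT⟩ := hZc.elim_finite_subcover (fun z : Z => (N z : Set X)) (fun z => (N z).2)
    (fun x hx => Set.mem_iUnion.2 ⟨⟨x, hx⟩, hzN ⟨x, hx⟩⟩)
  let J := {z : Z // z ∈ T}
  let U : J → Opens X := fun j => N j.1
  let s : ∀ j, F.obj.obj (op (U j)) := fun j => sN j.1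
  have hcov : Z ⊆ ⋃ j, (U j : Set X) := by
    intro x hx
    obtain ⟨z, hzT, hxz⟩ := Set.mem_iUnion₂.1 (hT hx)
    exact Set.mem_iUnion.2 ⟨⟨z, hzT⟩, hxz⟩
  have hcomp : ∀ (j k : J) (z : X), z ∈ Z → z ∈ U j → z ∈ U k → z ∈ eqLocus F U s j k := by
    intro j k z hzZ hj hk
    refine ⟨hj, hk, ?_⟩
    refine unit_germ_eq (incl X Z) F (s j) (s k)
      ((Opens.map (incl X Z)).obj (U j) ⊓ (Opens.map (incl X Z)).obj (U k)) inf_le_left inf_le_right
      ?_ ⟨z, hzZ⟩ ⟨hj, hk⟩
    change (pull (incl X Z) F).obj.map _ (eta (incl X Z) F (N j.1) (sN j.1)) =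
      (pull (incl X Z) F).obj.map _ (eta (incl X Z) F (N k.1) (sN k.1))
    rw [hsN j.1, hsN k.1, pull_map_comp, pull_map_comp]
  obtain ⟨σ, hσ⟩ := exists_global_section F U s hZ (fun j => hNc j.1) hconn hcov hcomp
  refine ⟨σ, ?_⟩
  apply TopCat.Presheaf.section_ext (pull (incl X Z) F)
  intro y hy
  obtain ⟨j, hj⟩ := Set.mem_iUnion.1 (hcov y.2)
  obtain ⟨W, hyW, iU, iV, e⟩ := F.presheaf.germ_eq (U := ⊤) (V := U j) y.1 trivial hj σ (s j)
    (hσ j y.1 y.2 hj)
  have hiU : iU = homOfLE iU.le := Subsingleton.elim _ _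
  have hiV : iV = homOfLE iV.le := Subsingleton.elim _ _
  rw [hiU, hiV] at e
  have e' := congrArg (eta (incl X Z) F W) e
  rw [eta_res, eta_res] at e'
  have e'' : (pull (incl X Z) F).obj.map (homOfLE ((Opens.map (incl X Z)).monotone iV.le)).op
      (eta (incl X Z) F (U j) (s j)) = (pull (incl X Z) F).obj.map
      (homOfLE ((Opens.map (incl X Z)).monotone iU.le)).op τ := by
    change (pull (incl X Z) F).obj.map _ (eta (incl X Z) F (N j.1) (sN j.1)) = _
    rw [hsN j.1, pull_map_comp]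
  rw [e''] at e'
  exact TopCat.Presheaf.germ_ext (pull (incl X Z) F).presheaf ((Opens.map (incl X Z)).obj W) hyW
    (homOfLE ((Opens.map (incl X Z)).monotone iU.le)) (homOfLE ((Opens.map (incl X Z)).monotone iU.le))
    e'

include hZ hconn in
/-- **Stacks 09ZG.** -/
theorem unit_top_bijective :
    Function.Bijective
      (((TopCat.Sheaf.pullbackPushforwardAdjunction (Type u)
        (TopCat.ofHom ⟨(Subtype.val : Z → X), continuous_subtype_val⟩)).unit.app F).hom.app (op ⊤)) :=
  ⟨eta_top_injective X Z hZ hconn F, eta_top_surjective X Z hZ hconn F⟩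

end Groth.Agent.Lib.Helper28.SpecSh
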